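import Groth.Agent.Lib.WeilExt.Diag
import Groth.Agent.Lib.RedSmooth.Basic
import Mathlib

/-!
# Weil's extension theorem for rational maps into separated group schemes
-/

universe u

open CategoryTheory Limits MonoidalCategory CartesianMonoidalCategory MonObj AlgebraicGeometry IsLocalRing TopologicalSpace

namespace GrothLib.WeilExt

theorem isReduced_of_isRegular (X : Scheme.{u}) (h : ∀ x : X, IsRegularLocalRing (X.presheaf.stalk x)) : IsReduced X := by
  have : ∀ x : X, _root_.IsReduced (X.presheaf.stalk x) := fun x => by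
    haveI := h x
    haveI := GrothLib.CMFree.isDomain_of_isRegularLocalRing (X.presheaf.stalk x)
    infer_instance
  exact isReduced_of_isReduced_stalk X

theorem isRegularLocalRing_stalk_of_smooth {X S : Scheme.{u}} [IsLocallyNoetherian S] (f : X ⟶ S) [Smooth f]
    (hS : ∀ s : S, IsRegularLocalRing (S.presheaf.stalk s)) (x : X) : IsRegularLocalRing (X.presheaf.stalk x) :=
  (GrothLib.LocProp.isRegularLocalRing_stalk_iff_of_mem_smoothLocus f x
    (by rw [Scheme.Hom.smoothLocus_eq_top f]; trivial)).mpr (hS _)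

theorem isRegularLocalRing_stalk_spec (R : Type u) [CommRing R] [IsRegularRing R] (p : Spec (CommRingCat.of R)) :
    IsRegularLocalRing ((Spec (CommRingCat.of R)).presheaf.stalk p) :=
  IsRegularLocalRing.of_ringEquiv (R := Localization.AtPrime p.asIdeal)
    (StructureSheaf.stalkIso (CommRingCat.of R) p).toRingEquiv

/-- Morphisms agreeing over a dense open of the target of an open map agree. -/
theorem eq_of_eqOn_preimage {T X G S : Scheme.{u}} [IsReduced T] (t : T ⟶ X) (ht : IsOpenMap t) (U : X.Opens)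
    (hU : Dense (U : Set X)) (pG : G ⟶ S) [IsSeparated pG] (a b : T ⟶ G) (h : a ≫ pG = b ≫ pG)
    (hab : (t ⁻¹ᵁ U).ι ≫ a = (t ⁻¹ᵁ U).ι ≫ b) : a = b := by
  haveI : IsDominant (t ⁻¹ᵁ U).ι := ⟨by
    show Dense (Set.range (t ⁻¹ᵁ U).ι)
    rw [Scheme.Opens.range_ι]
    exact hU.preimage ht⟩
  exact ext_of_isDominant_of_isSeparated pG h _ hab

section

variable {S X G : Scheme.{u}} (pX : X ⟶ S) (pG : G ⟶ S)

/-- A point of the fibre product over `x` in the fibre through the diagonal, lying over a given dense open. -/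
theorem exists_generalization [IsLocallyNoetherian X] [LocallyOfFiniteType pX] [IsLocallyNoetherian S] (U : X.Opens)
    (hdense : ∀ x : X, x ∈ closure ((U : Set X) ∩ {y | pX.base y = pX.base x})) (x : X)
    (z : ↥(pullback pX pX)) (hz1 : pullback.fst pX pX z = x) (hz2 : pullback.snd pX pX z = x) :
    ∃ w : ↥(pullback pX pX), w ⤳ z ∧ pullback.fst pX pX w = x ∧ pullback.snd pX pX w ∈ U := by
  let pr1 := pullback.fst pX pX
  let pr2 := pullback.snd pX pX
  have H := isPullback_fiberToSpecResidueField_of_isPullback (IsPullback.of_hasPullback pX pX).flip x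
  let m := pullback.map pr1 (X.fromSpecResidueField x) pX (S.fromSpecResidueField (pX x)) pr2
    (Spec.map (pX.residueFieldMap x)) pX (IsPullback.of_hasPullback pX pX).flip.w.symm (by simp)
  haveI : Flat (Spec.map (pX.residueFieldMap x)) := by
    rw [HasRingHomProperty.Spec_iff (P := @Flat), RingHom.Flat]
    algebraize [(pX.residueFieldMap x).hom]
    infer_instance
  haveI : Flat m := MorphismProperty.of_isPullback (P := @Flat) H.flip inferInstance
  have hmm : m ≫ pX.fiberι (pX x) = pr1.fiberι x ≫ pr2 := pullback.lift_fst _ _ _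
  have hm : ∀ v, pX.fiberι (pX x) (m v) = pr2 (pr1.fiberι x v) := fun v => congr($hmm v)
  let F := pX.fiber (pX x)
  haveI : LocallyOfFiniteType (pX.fiberToSpecResidueField (pX x)) := MorphismProperty.pullback_snd _ _ inferInstance
  haveI : IsLocallyNoetherian F := LocallyOfFiniteType.isLocallyNoetherian (pX.fiberToSpecResidueField (pX x))
  let U₂ : F.Opens := pX.fiberι (pX x) ⁻¹ᵁ U
  have hcl : ∀ v : F, v ∈ closure (Set.range U₂.ι) := by
    intro v
    rw [Scheme.Opens.range_ι]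
    have hv : pX (pX.fiberι (pX x) v) = pX x := by
      have : pX.fiberι (pX x) v ∈ Set.range (pX.fiberι (pX x)) := ⟨v, rfl⟩
      rw [Scheme.Hom.range_fiberι] at this
      exact this
    rw [(pX.fiberι (pX x)).isEmbedding.isInducing.closure_eq_preimage_closure_image, Set.mem_preimage]
    refine closure_mono ?_ (hdense (pX.fiberι (pX x) v))
    rintro y ⟨hyU, hy⟩
    obtain ⟨y', rfl⟩ : y ∈ Set.range (pX.fiberι (pX x)) := by
      rw [Scheme.Hom.range_fiberι]; exact hy.trans hv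
    exact ⟨y', hyU, rfl⟩
  obtain ⟨v₁, hv₁⟩ : z ∈ Set.range (pr1.fiberι x) := by rw [Scheme.Hom.range_fiberι]; exact hz1
  obtain ⟨gp, hγ, hγv⟩ := GrothLib.LocNoeth.exists_maximal_specializes (m v₁)
  obtain ⟨⟨gp', hγ'⟩, rfl⟩ := GrothLib.LocNoeth.mem_range_of_maximal U₂.ι hγ (hcl gp)
  obtain ⟨v₂, hv₂, hv₂'⟩ := Flat.generalizingMap m hγv
  refine ⟨pr1.fiberι x v₂, hv₁ ▸ hv₂.map (pr1.fiberι x).continuous, ?_, ?_⟩
  · have : pr1.fiberι x v₂ ∈ Set.range (pr1.fiberι x) := ⟨v₂, rfl⟩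
    rw [Scheme.Hom.range_fiberι] at this
    exact this
  · show pr2 _ ∈ U
    rw [← hm, hv₂']
    exact hγ'

variable [IsLocallyNoetherian S] [S.IsSeparated] [Smooth pX] [GrpObj (Over.mk pG)] [IsSeparated pG]
  [LocallyOfFiniteType pG] (hS : ∀ s : S, IsRegularLocalRing (S.presheaf.stalk s))
  (U : X.Opens) (hdense : ∀ x : X, x ∈ closure ((U : Set X) ∩ {y | pX.base y = pX.base x}))
  (hcodim : ∀ x : X, x ∉ U → (2 : WithBot ℕ∞) ≤ ringKrullDim (X.presheaf.stalk x))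
  (f : (U : Scheme.{u}) ⟶ G) (hf : f ≫ pG = U.ι ≫ pX)

include hS hdense hcodim hf in
/-- Local extension at a point. -/
theorem exists_extension_nhd (x : X) :
    ∃ (V : X.Opens) (g : (V : Scheme.{u}) ⟶ G), x ∈ V ∧ g ≫ pG = V.ι ≫ pX ∧
      X.homOfLE (inf_le_left : V ⊓ U ≤ V) ≫ g = X.homOfLE (inf_le_right : V ⊓ U ≤ U) ≫ f := by
  haveI : IsLocallyNoetherian X := LocallyOfFiniteType.isLocallyNoetherian pX
  haveI : IsReduced S := isReduced_of_isRegular S hS
  haveI : IsReduced X := GrothLib.RedSmooth.isReduced_of_smooth pX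
  let P := pullback pX pX
  let pr1 : P ⟶ X := pullback.fst pX pX
  let pr2 : P ⟶ X := pullback.snd pX pX
  let pP : P ⟶ S := pr1 ≫ pX
  have hw : pr2 ≫ pX = pP := pullback.condition.symm
  haveI : IsLocallyNoetherian P := LocallyOfFiniteType.isLocallyNoetherian pP
  haveI : IsReduced P := GrothLib.RedSmooth.isReduced_of_smooth pP
  let Δ : X ⟶ P := pullback.diagonal pX
  let G' : Over S := Over.mk pG
  let e : S ⟶ G := (MonObj.one (X := G')).left
  have he : e ≫ pG = 𝟙 S := Over.w (MonObj.one (X := G'))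
  let W₀ : P.Opens := pr1 ⁻¹ᵁ U ⊓ pr2 ⁻¹ᵁ U
  let a : Over.mk (W₀.ι ≫ pP) ⟶ G' := Over.homMk (pr1.resLE U W₀ inf_le_left ≫ f) (by
    show (_ ≫ f) ≫ pG = _
    rw [Category.assoc, hf, Scheme.Hom.resLE_comp_ι_assoc]; rfl)
  let b : Over.mk (W₀.ι ≫ pP) ⟶ G' := Over.homMk (pr2.resLE U W₀ inf_le_right ≫ f) (by
    show (_ ≫ f) ≫ pG = _
    rw [Category.assoc, hf, Scheme.Hom.resLE_comp_ι_assoc, hw]; rfl)
  let Φ : (W₀ : Scheme.{u}) ⟶ G := (a * b⁻¹).left
  have hΔ1 : ∀ y, pr1 (Δ y) = y := fun y => by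
    rw [← Scheme.Hom.comp_apply, pullback.diagonal_fst]; rfl
  have hΔ2 : ∀ y, pr2 (Δ y) = y := fun y => by
    rw [← Scheme.Hom.comp_apply, pullback.diagonal_snd]; rfl
  have hΔU : U ≤ Δ ⁻¹ᵁ W₀ := fun y hy => ⟨show pr1 (Δ y) ∈ U by rwa [hΔ1], show pr2 (Δ y) ∈ U by rwa [hΔ2]⟩
  have heq : ∀ (y : X) (hy : Δ y ∈ W₀), Φ ⟨Δ y, hy⟩ = e (pP (Δ y)) := by
    intro y hy
    have hyU : y ∈ U := hΔ1 y ▸ hy.1
    let s : Over.mk (U.ι ≫ pX) ⟶ Over.mk (W₀.ι ≫ pP) := Over.homMk (Δ.resLE W₀ U hΔU) (by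
      show Δ.resLE W₀ U hΔU ≫ W₀.ι ≫ pP = _
      rw [Scheme.Hom.resLE_comp_ι_assoc]
      simp [pP, Δ, pr1])
    have hab : s ≫ a = s ≫ b := by
      apply Over.OverMorphism.ext
      show Δ.resLE W₀ U hΔU ≫ pr1.resLE U W₀ inf_le_left ≫ f = Δ.resLE W₀ U hΔU ≫ pr2.resLE U W₀ inf_le_right ≫ f
      have key : Δ.resLE W₀ U hΔU ≫ pr1.resLE U W₀ inf_le_left = Δ.resLE W₀ U hΔU ≫ pr2.resLE U W₀ inf_le_right := by
        rw [← cancel_mono U.ι]
        simp [Δ, pr1, pr2]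
      rw [reassoc_of% key]
    have h1 : s ≫ (a * b⁻¹) = 1 := by rw [MonObj.comp_mul, GrpObj.comp_inv, hab, mul_inv_cancel]
    have h2 := congrArg CommaMorphism.left h1
    rw [Hom.one_def] at h2
    have h3 := congr($h2 (⟨y, hyU⟩ : (U : Scheme.{u})))
    have h4 : Δ.resLE W₀ U hΔU (⟨y, hyU⟩ : (U : Scheme.{u})) = ⟨Δ y, hy⟩ := by
      apply W₀.ι.isOpenEmbedding.injective
      rw [← Scheme.Hom.comp_apply, Scheme.Hom.resLE_comp_ι]; rfl
    rw [← h4]
    refine h3.trans ?_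
    show e (pX y) = e (pP (Δ y))
    rw [show pP (Δ y) = pX (pr1 (Δ y)) from rfl, hΔ1]
  have hreg := isRegularLocalRing_stalk_of_smooth pX hS
  haveI := hreg x
  haveI := isRegularLocalRing_stalk_of_smooth pP hS (Δ x)
  have hcod : ∀ y : X, y ⤳ x → ringKrullDim (X.presheaf.stalk y) ≤ 1 → Δ y ∈ W₀ := fun y _ hy => hΔU (by
    by_contra h
    exact absurd ((hcodim y h).trans hy) (by decide))
  obtain ⟨V, g, hzV, hg, hgW⟩ :=
    exists_extension_nhd_of_section pP pG Δ e he W₀ Φ (Over.w (a * b⁻¹)) x hcod heq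
  -- descent along the first projection
  let V' : P.Opens := V ⊓ pr2 ⁻¹ᵁ U
  let p : (V' : Scheme.{u}) ⟶ X := V'.ι ≫ pr1
  let X' : X.Opens := ⟨Set.range p, p.isOpenMap.isOpen_range⟩
  have hxX' : x ∈ X' := by
    obtain ⟨w, hwz, hw1, hw2⟩ := exists_generalization pX U hdense x (Δ x) (hΔ1 x) (hΔ2 x)
    exact ⟨(⟨w, hwz.mem_open V.2 hzV, hw2⟩ : (V' : Scheme.{u})), hw1⟩
  let p' : (V' : Scheme.{u}) ⟶ X' := IsOpenImmersion.lift X'.ι p (by rw [Scheme.Opens.range_ι]; exact subset_rfl)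
  have hp' : p' ≫ X'.ι = p := IsOpenImmersion.lift_fac _ _ _
  haveI : Smooth p' := MorphismProperty.of_postcomp @Smooth p' X'.ι (inferInstance : IsOpenImmersion X'.ι) (hp' ▸ inferInstance)
  haveI : Surjective p' := ⟨fun y => by
    obtain ⟨v, hv⟩ := y.2
    refine ⟨v, X'.ι.isOpenEmbedding.injective ?_⟩
    rw [← Scheme.Hom.comp_apply, hp']
    exact hv⟩
  let TV : Over S := Over.mk (V'.ι ≫ pP)
  let gV : TV ⟶ G' := Over.homMk (P.homOfLE (inf_le_left : V' ≤ V) ≫ g) (by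
    show (_ ≫ g) ≫ pG = _
    rw [Category.assoc, hg, Scheme.homOfLE_ι_assoc]; rfl)
  let bV : TV ⟶ G' := Over.homMk (pr2.resLE U V' inf_le_right ≫ f) (by
    show (_ ≫ f) ≫ pG = _
    rw [Category.assoc, hf, Scheme.Hom.resLE_comp_ι_assoc, hw]; rfl)
  let h : (V' : Scheme.{u}) ⟶ G := (gV * bV).left
  have hhS : h ≫ pG = V'.ι ≫ pP := Over.w (gV * bV)
  -- `h` is the pullback of `f` where this makes sense
  have hO : ∀ {T : Scheme.{u}} (t : T ⟶ V') (tU : T ⟶ U), t ≫ p = tU ≫ U.ι → t ≫ h = tU ≫ f := by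
    intro T t tU ht
    have hr : Set.range (t ≫ V'.ι) ⊆ Set.range W₀.ι := by
      rintro _ ⟨v, rfl⟩
      rw [Scheme.Opens.range_ι]
      refine ⟨?_, (t v).2.2⟩
      show pr1 _ ∈ U
      rw [← Scheme.Hom.comp_apply, Category.assoc, ht, Scheme.Hom.comp_apply]
      exact (tU v).2
    let tW := IsOpenImmersion.lift W₀.ι (t ≫ V'.ι) hr
    have htW : tW ≫ W₀.ι = t ≫ V'.ι := IsOpenImmersion.lift_fac _ _ _
    have hr' : Set.range tW ⊆ Set.range (P.homOfLE (inf_le_right : V ⊓ W₀ ≤ W₀)) := by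
      rintro _ ⟨v, rfl⟩
      have hv : W₀.ι (tW v) ∈ V := by
        rw [← Scheme.Hom.comp_apply, htW]; exact (t v).2.1
      exact ⟨(⟨W₀.ι (tW v), hv, (tW v).2⟩ : ((V ⊓ W₀ : P.Opens) : Scheme.{u})), by
        apply W₀.ι.isOpenEmbedding.injective
        rw [← Scheme.Hom.comp_apply, Scheme.homOfLE_ι]; rfl⟩
    let tWV := IsOpenImmersion.lift (P.homOfLE (inf_le_right : V ⊓ W₀ ≤ W₀)) tW hr'
    have htWV : tWV ≫ P.homOfLE inf_le_right = tW := IsOpenImmersion.lift_fac _ _ _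
    have e1 : t ≫ P.homOfLE (inf_le_left : V' ≤ V) ≫ g = tW ≫ Φ := by
      have : tWV ≫ P.homOfLE (inf_le_left : V ⊓ W₀ ≤ V) = t ≫ P.homOfLE (inf_le_left : V' ≤ V) := by
        rw [← cancel_mono V.ι, Category.assoc, Category.assoc, Scheme.homOfLE_ι, Scheme.homOfLE_ι]
        conv_lhs => rw [← Scheme.homOfLE_ι P (inf_le_right : V ⊓ W₀ ≤ W₀), reassoc_of% htWV, htW]
      rw [← reassoc_of% this, hgW, reassoc_of% htWV]
    let T' : Over S := Over.mk (t ≫ V'.ι ≫ pP)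
    let t' : T' ⟶ TV := Over.homMk t
    let tW' : T' ⟶ Over.mk (W₀.ι ≫ pP) := Over.homMk tW (by
      show tW ≫ W₀.ι ≫ pP = t ≫ V'.ι ≫ pP
      rw [reassoc_of% htW])
    have e2 : t' ≫ gV = tW' ≫ (a * b⁻¹) := Over.OverMorphism.ext e1
    have e3 : t' ≫ bV = tW' ≫ b := by
      apply Over.OverMorphism.ext
      show t ≫ pr2.resLE U V' inf_le_right ≫ f = tW ≫ pr2.resLE U W₀ inf_le_right ≫ f
      have : t ≫ pr2.resLE U V' inf_le_right = tW ≫ pr2.resLE U W₀ inf_le_right := by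
        rw [← cancel_mono U.ι, Category.assoc, Category.assoc, Scheme.Hom.resLE_comp_ι, Scheme.Hom.resLE_comp_ι, reassoc_of% htW]
      rw [reassoc_of% this]
    have e4 : t' ≫ (gV * bV) = tW' ≫ a := by
      rw [MonObj.comp_mul, e2, e3, MonObj.comp_mul, GrpObj.comp_inv, inv_mul_cancel_right]
    refine (congrArg CommaMorphism.left e4).trans ?_
    show tW ≫ pr1.resLE U W₀ inf_le_left ≫ f = tU ≫ f
    have : tW ≫ pr1.resLE U W₀ inf_le_left = tU := by
      rw [← cancel_mono U.ι, Category.assoc, Scheme.Hom.resLE_comp_ι, reassoc_of% htW]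
      exact ht
    rw [reassoc_of% this]
  have hker : pullback.fst p' p' ≫ h = pullback.snd p' p' ≫ h := by
    haveI : Smooth ((pullback.fst p' p' ≫ p) ≫ pX) := by
      haveI : Smooth p := hp' ▸ inferInstance
      infer_instance
    haveI : IsReduced (pullback p' p') := GrothLib.RedSmooth.isReduced_of_smooth ((pullback.fst p' p' ≫ p) ≫ pX)
    haveI : Smooth (pullback.fst p' p' ≫ p) := by
      haveI : Smooth p := hp' ▸ inferInstance
      infer_instance
    have hpp : pullback.fst p' p' ≫ p = pullback.snd p' p' ≫ p := by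
      rw [← hp', pullback.condition_assoc]
    refine eq_of_eqOn_preimage (pullback.fst p' p' ≫ p) (Scheme.Hom.isOpenMap _) U
      (fun y => closure_mono Set.inter_subset_left (hdense y)) pG _ _ ?_ ?_
    · rw [Category.assoc, Category.assoc, hhS]
      show pullback.fst p' p' ≫ p ≫ pX = pullback.snd p' p' ≫ p ≫ pX
      rw [reassoc_of% hpp]
    · let tU := (pullback.fst p' p' ≫ p).resLE U ((pullback.fst p' p' ≫ p) ⁻¹ᵁ U) le_rfl
      have htU : tU ≫ U.ι = ((pullback.fst p' p' ≫ p) ⁻¹ᵁ U).ι ≫ pullback.fst p' p' ≫ p := Scheme.Hom.resLE_comp_ι _ _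
      let O' := (pullback.fst p' p' ≫ p) ⁻¹ᵁ U
      have ha := hO (O'.ι ≫ pullback.fst p' p') tU (by rw [Category.assoc, htU])
      have hb := hO (O'.ι ≫ pullback.snd p' p') tU (by rw [Category.assoc, htU]; exact congrArg (fun t => O'.ι ≫ t) hpp.symm)
      exact ((Category.assoc _ _ _).symm.trans ha).trans (hb.symm.trans (Category.assoc _ _ _))
  let g' : (X' : Scheme.{u}) ⟶ G := EffectiveEpi.desc p' h (fun {T} g₁ g₂ h12 => by
    calc g₁ ≫ h = pullback.lift g₁ g₂ h12 ≫ pullback.fst p' p' ≫ h := by rw [pullback.lift_fst_assoc]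
      _ = g₂ ≫ h := by rw [hker, pullback.lift_snd_assoc])
  have hg' : p' ≫ g' = h := EffectiveEpi.fac _ _ _
  have hg'S : g' ≫ pG = X'.ι ≫ pX := by
    rw [← cancel_epi p', reassoc_of% hg', hhS, reassoc_of% hp']
    rfl
  refine ⟨X', g', hxX', hg'S, ?_⟩
  let O : (V' : Scheme.{u}).Opens := p ⁻¹ᵁ U
  have hOr : Set.range (O.ι ≫ p') ⊆ Set.range (X.homOfLE (inf_le_left : X' ⊓ U ≤ X')) := by
    rintro _ ⟨v, rfl⟩
    have hv : X'.ι ((O.ι ≫ p') v) ∈ U := by
      rw [← Scheme.Hom.comp_apply, Category.assoc, hp']; exact v.2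
    exact ⟨(⟨_, ((O.ι ≫ p') v).2, hv⟩ : ((X' ⊓ U : X.Opens) : Scheme.{u})), by
      apply X'.ι.isOpenEmbedding.injective
      rw [← Scheme.Hom.comp_apply, Scheme.homOfLE_ι]; rfl⟩
  let q := IsOpenImmersion.lift (X.homOfLE (inf_le_left : X' ⊓ U ≤ X')) (O.ι ≫ p') hOr
  have hq : q ≫ X.homOfLE inf_le_left = O.ι ≫ p' := IsOpenImmersion.lift_fac _ _ _
  have hqι : q ≫ (X' ⊓ U).ι = O.ι ≫ p := by
    rw [← Scheme.homOfLE_ι X (inf_le_left : X' ⊓ U ≤ X'), reassoc_of% hq, hp']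
  haveI : IsDominant q := ⟨Function.Surjective.denseRange fun y => by
    obtain ⟨v, hv⟩ := y.2.1
    refine ⟨(⟨v, show p v ∈ U from hv ▸ y.2.2⟩ : (O : Scheme.{u})), (X' ⊓ U).ι.isOpenEmbedding.injective ?_⟩
    rw [← Scheme.Hom.comp_apply, hqι]
    exact hv⟩
  haveI : IsReduced ((X' ⊓ U : X.Opens) : Scheme.{u}) := inferInstance
  refine ext_of_isDominant_of_isSeparated pG (by simp [hg'S, hf]) q ?_
  rw [reassoc_of% hq, hg', hO O.ι (q ≫ X.homOfLE inf_le_right) (by rw [Category.assoc, Scheme.homOfLE_ι, hqι]), Category.assoc]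

include hS hdense hcodim hf in
/-- Weil's extension theorem. -/
theorem existsUnique_extension : ∃! g : X ⟶ G, g ≫ pG = pX ∧ U.ι ≫ g = f := by
  haveI : IsLocallyNoetherian X := LocallyOfFiniteType.isLocallyNoetherian pX
  haveI : IsReduced S := isReduced_of_isRegular S hS
  haveI : IsReduced X := GrothLib.RedSmooth.isReduced_of_smooth pX
  have hU : Dense (U : Set X) := fun y => closure_mono Set.inter_subset_left (hdense y)
  choose V g hxV hgS hgU using exists_extension_nhd pX pG hS U hdense hcodim f hf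
  let 𝒰 : X.OpenCover := X.openCoverOfIsOpenCover V (TopologicalSpace.IsOpenCover.mk (eq_top_iff.mpr fun x _ => Opens.mem_iSup.mpr ⟨x, hxV x⟩))
  have hcompat : ∀ i j : X, pullback.fst (V i).ι (V j).ι ≫ g i = pullback.snd (V i).ι (V j).ι ≫ g j := by
    intro i j
    haveI : IsReduced (pullback (V i).ι (V j).ι) := isReduced_of_isOpenImmersion (pullback.fst (V i).ι (V j).ι ≫ (V i).ι)
    let t := pullback.fst (V i).ι (V j).ι ≫ (V i).ι
    refine eq_of_eqOn_preimage t t.isOpenEmbedding.isOpenMap U hU pG _ _ ?_ ?_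
    · rw [Category.assoc, Category.assoc, hgS, hgS, pullback.condition_assoc]
    · let tU := t.resLE U (t ⁻¹ᵁ U) le_rfl
      have htU : tU ≫ U.ι = (t ⁻¹ᵁ U).ι ≫ t := Scheme.Hom.resLE_comp_ι _ _
      have key : ∀ (k : X) (s : ((t ⁻¹ᵁ U) : Scheme.{u}) ⟶ V k), s ≫ (V k).ι = tU ≫ U.ι → s ≫ g k = tU ≫ f := by
        intro k s hs
        have hr : Set.range s ⊆ Set.range (X.homOfLE (inf_le_left : V k ⊓ U ≤ V k)) := by
          rintro _ ⟨v, rfl⟩
          have hv : (V k).ι (s v) ∈ U := by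
            rw [← Scheme.Hom.comp_apply, hs, Scheme.Hom.comp_apply]; exact (tU v).2
          exact ⟨(⟨_, (s v).2, hv⟩ : ((V k ⊓ U : X.Opens) : Scheme.{u})), by
            apply (V k).ι.isOpenEmbedding.injective
            rw [← Scheme.Hom.comp_apply, Scheme.homOfLE_ι]; rfl⟩
        have hl := IsOpenImmersion.lift_fac _ _ hr
        have hlU : IsOpenImmersion.lift (X.homOfLE (inf_le_left : V k ⊓ U ≤ V k)) s hr ≫ X.homOfLE inf_le_right = tU := by
          rw [← cancel_mono U.ι, Category.assoc, Scheme.homOfLE_ι, ← Scheme.homOfLE_ι X (inf_le_left : V k ⊓ U ≤ V k), reassoc_of% hl, hs]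
        rw [← hl, Category.assoc, hgU k, reassoc_of% hlU]
      rw [← Category.assoc, ← Category.assoc, key i _ (by rw [htU, Category.assoc]),
        key j _ (by rw [htU, Category.assoc, ← pullback.condition])]
  let G₀ : X ⟶ G := 𝒰.glueMorphisms g hcompat
  have hG₀ : ∀ i, (V i).ι ≫ G₀ = g i := fun i => 𝒰.ι_glueMorphisms g hcompat i
  have hGS : G₀ ≫ pG = pX := Scheme.Cover.hom_ext 𝒰 _ _ fun i => by
    show (V i).ι ≫ G₀ ≫ pG = (V i).ι ≫ pX
    rw [reassoc_of% (hG₀ i), hgS]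
  have hGU : U.ι ≫ G₀ = f := by
    refine Scheme.Cover.hom_ext (Scheme.openCoverOfIsOpenCover (U : Scheme.{u}) (fun i => U.ι ⁻¹ᵁ V i)
      (TopologicalSpace.IsOpenCover.mk (eq_top_iff.mpr fun v _ => Opens.mem_iSup.mpr ⟨U.ι v, hxV _⟩))) _ _ fun i => ?_
    show (U.ι ⁻¹ᵁ V i).ι ≫ U.ι ≫ G₀ = (U.ι ⁻¹ᵁ V i).ι ≫ f
    let O := U.ι ⁻¹ᵁ V i
    have hr : Set.range (O.ι ≫ U.ι) ⊆ Set.range (V i ⊓ U).ι := by
      rintro _ ⟨v, rfl⟩
      rw [Scheme.Opens.range_ι]
      exact ⟨v.2, (O.ι v).2⟩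
    have hl := IsOpenImmersion.lift_fac _ _ hr
    have hlU : IsOpenImmersion.lift (V i ⊓ U).ι (O.ι ≫ U.ι) hr ≫ X.homOfLE inf_le_right = O.ι := by
      rw [← cancel_mono U.ι, Category.assoc, Scheme.homOfLE_ι, hl]
    have hl' : IsOpenImmersion.lift (V i ⊓ U).ι (O.ι ≫ U.ι) hr ≫ X.homOfLE inf_le_left ≫ (V i).ι = O.ι ≫ U.ι := by
      rw [Scheme.homOfLE_ι]; exact hl
    calc O.ι ≫ U.ι ≫ G₀ = (O.ι ≫ U.ι) ≫ G₀ := (Category.assoc _ _ _).symm
      _ = IsOpenImmersion.lift (V i ⊓ U).ι (O.ι ≫ U.ι) hr ≫ X.homOfLE inf_le_left ≫ g i := by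
        exact (congrArg (fun t => t ≫ G₀) hl'.symm).trans (by simp only [Category.assoc, hG₀])
      _ = O.ι ≫ f := by rw [hgU i, reassoc_of% hlU]
  refine ⟨G₀, ⟨hGS, hGU⟩, fun g₂ hg₂ => ?_⟩
  haveI : IsDominant U.ι := ⟨by show Dense (Set.range U.ι); rw [Scheme.Opens.range_ι]; exact hU⟩
  exact ext_of_isDominant_of_isSeparated pG (hg₂.1.trans hGS.symm) U.ι (hg₂.2.trans hGU.symm)

end

end GrothLib.WeilExt
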