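import Groth.Agent.Lib.WeilExt.Extend
import Groth.Agent.S4440
import Mathlib

/-!
# Extension of rational maps from smooth schemes over Dedekind domains into proper group schemes
-/

universe u

open CategoryTheory Limits AlgebraicGeometry IsLocalRing TopologicalSpace

namespace GrothLib.WeilExt

variable {R : Type u} [CommRing R] [IsDedekindDomain R]

theorem isRegularLocalRing_stalk_dedekind (p : Spec (CommRingCat.of R)) :
    IsRegularLocalRing ((Spec (CommRingCat.of R)).presheaf.stalk p) :=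
  isRegularLocalRing_stalk_spec R p

variable {X : Scheme.{u}} (pX : X ⟶ Spec (CommRingCat.of R))

/-- A point which is maximal in its fibre has local ring of dimension at most one. -/
theorem ringKrullDim_stalk_le_one_of_fibre_maximal [LocallyOfFiniteType pX] (x : X)
    (hmax : ∀ y : X, y ⤳ x → pX y = pX x → y = x) : ringKrullDim (X.presheaf.stalk x) ≤ 1 := by
  let Os := (Spec (CommRingCat.of R)).presheaf.stalk (pX x)
  haveI : IsRegularLocalRing Os := isRegularLocalRing_stalk_dedekind (pX x)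
  haveI : IsLocallyNoetherian X := LocallyOfFiniteType.isLocallyNoetherian pX
  let φ : Os →+* X.presheaf.stalk x := (pX.stalkMap x).hom
  let I := (maximalIdeal Os).map φ
  have hI : I ≤ maximalIdeal (X.presheaf.stalk x) :=
    Ideal.map_le_iff_le_comap.mpr fun a ha => map_nonunit φ a ha
  have hdim : ringKrullDim Os ≤ 1 := by
    refine (ringKrullDim_eq_of_ringEquiv (StructureSheaf.stalkIso (CommRingCat.of R) (pX x)).toRingEquiv).symm.trans_le ?_
    rw [IsLocalization.AtPrime.ringKrullDim_eq_height (pX x).asIdeal]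
    exact (Ideal.height_le_ringKrullDim_of_ne_top (pX x).isPrime.ne_top).trans (Ring.krullDimLE_iff.mp inferInstance)
  have hsp : (maximalIdeal Os).spanFinrank ≤ 1 := by
    have h := IsRegularLocalRing.spanFinrank_maximalIdeal (R := Os)
    rw [← h] at hdim
    exact_mod_cast hdim
  have hI1 : I.spanFinrank ≤ 1 := (Ideal.spanFinrank_map_le_of_fg _ (IsNoetherian.noetherian _)).trans hsp
  have h0 : ringKrullDim (X.presheaf.stalk x ⧸ I) ≤ 0 := by
    rw [ringKrullDim_quotient]
    refine Order.krullDim_nonpos_iff_forall_isMax.mpr fun q r _ => ?_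
    show r.1.asIdeal ≤ q.1.asIdeal
    refine le_trans (le_maximalIdeal r.1.isPrime.ne_top) ?_
    -- the point given by `q` lies in the fibre
    have hqI : I ≤ q.1.asIdeal := fun a ha => q.2 ha
    have hcl : Spec.map (pX.stalkMap x) q.1 = IsLocalRing.closedPoint Os := PrimeSpectrum.ext (by
      refine le_antisymm (le_maximalIdeal ((q.1.isPrime.comap φ).ne_top)) ?_
      exact Ideal.map_le_iff_le_comap.mp hqI)
    have hy : X.fromSpecStalk x q.1 ⤳ x := by
      have : X.fromSpecStalk x q.1 ∈ Set.range (X.fromSpecStalk x) := ⟨q.1, rfl⟩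
      rwa [Scheme.range_fromSpecStalk] at this
    have hfib : pX (X.fromSpecStalk x q.1) = pX x := by
      have h := congr($(Scheme.SpecMap_stalkMap_fromSpecStalk pX (x := x)) q.1)
      rw [Scheme.Hom.comp_apply, Scheme.Hom.comp_apply, hcl, Scheme.fromSpecStalk_closedPoint] at h
      exact h.symm
    have heq := hmax _ hy hfib
    have : q.1 = IsLocalRing.closedPoint (X.presheaf.stalk x) :=
      (X.fromSpecStalk x).isEmbedding.injective (heq.trans Scheme.fromSpecStalk_closedPoint.symm)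
    rw [this]
    exact le_rfl
  refine (ringKrullDim_le_ringKrullDim_quotient_add_spanFinrank I (by rwa [ringJacobson_eq_maximalIdeal])).trans ?_
  calc ringKrullDim (X.presheaf.stalk x ⧸ I) + (I.spanFinrank : WithBot ℕ∞) ≤ 0 + (1 : ℕ) := by gcongr
    _ = 1 := by simp

/-- An open containing the points of codimension at most one is dense in each fibre. -/
theorem mem_closure_fibre [LocallyOfFiniteType pX] (U : X.Opens)
    (hU : ∀ y : X, ringKrullDim (X.presheaf.stalk y) ≤ 1 → y ∈ U) (x : X) :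
    x ∈ closure ((U : Set X) ∩ {y | pX.base y = pX.base x}) := by
  obtain ⟨η, hη, hηx⟩ := GrothLib.LocNoeth.exists_maximal_specializes (pX.asFiber x)
  have hfib : ∀ v, pX (pX.fiberι (pX x) v) = pX x := fun v => by
    have : pX.fiberι (pX x) v ∈ Set.range (pX.fiberι (pX x)) := ⟨v, rfl⟩
    rw [Scheme.Hom.range_fiberι] at this
    exact this
  have hmax : ∀ y : X, y ⤳ pX.fiberι (pX x) η → pX y = pX (pX.fiberι (pX x) η) → y = pX.fiberι (pX x) η := by
    intro y hy hy'
    obtain ⟨v, rfl⟩ : y ∈ Set.range (pX.fiberι (pX x)) := by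
      rw [Scheme.Hom.range_fiberι]; exact hy'.trans (hfib η)
    rw [(pX.fiberι (pX x)).isEmbedding.isInducing.specializes_iff] at hy
    have h2 := hη.2 isIrreducible_singleton.closure hy.closure_subset
    exact congrArg _ ((hy.antisymm (specializes_iff_closure_subset.mpr h2)).eq)
  have hxs : pX.fiberι (pX x) η ⤳ x := by
    have := hηx.map (pX.fiberι (pX x)).continuous
    rwa [Scheme.Hom.fiberι_asFiber] at this
  refine hxs.mem_closed isClosed_closure (subset_closure ⟨?_, hfib η⟩)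
  exact hU _ (ringKrullDim_stalk_le_one_of_fibre_maximal pX _ hmax)

theorem two_le_of_not_le_one {A : Type*} [CommRing A] [Nontrivial A] (h : ¬ ringKrullDim A ≤ 1) :
    (2 : WithBot ℕ∞) ≤ ringKrullDim A := by
  have h0 : (0 : WithBot ℕ∞) ≤ ringKrullDim A := ringKrullDim_nonneg_of_nontrivial
  revert h h0
  generalize ringKrullDim A = D
  intro h h0
  induction D with
  | bot => simp at h0
  | coe D =>
    induction D with
    | top => exact WithBot.coe_le_coe.mpr le_top
    | coe D =>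
      have hD : ¬ D ≤ 1 := fun hD => h (WithBot.coe_le_coe.mpr (ENat.coe_le_coe.mpr hD))
      exact WithBot.coe_le_coe.mpr (ENat.coe_le_coe.mpr (show 2 ≤ D by omega))

variable {G : Scheme.{u}} (pG : G ⟶ Spec (CommRingCat.of R))

/-- A rational map from a smooth scheme over a Dedekind domain to a proper group scheme is a morphism. -/
theorem existsUnique_extension_of_isProper [Smooth pX] [GrpObj (Over.mk pG)] [IsProper pG]
    (U : X.Opens) (hU : Dense (U : Set X)) (f : (U : Scheme.{u}) ⟶ G) (hf : f ≫ pG = U.ι ≫ pX) :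
    ∃! g : X ⟶ G, g ≫ pG = pX ∧ U.ι ≫ g = f := by
  haveI : IsLocallyNoetherian X := LocallyOfFiniteType.isLocallyNoetherian pX
  have hreg := isRegularLocalRing_stalk_of_smooth pX isRegularLocalRing_stalk_dedekind
  haveI : IsReduced X := isReduced_of_isRegular X hreg
  obtain ⟨V, hUV, g', hg', hg'U, hV⟩ := Groth.Agent.S4440.result pG pX (fun y _ => hreg y) U hU f hf
  obtain ⟨g, ⟨hg, hgV⟩, -⟩ := existsUnique_extension pX pG isRegularLocalRing_stalk_dedekind V
    (mem_closure_fibre pX V hV) (fun x hx => two_le_of_not_le_one fun h => hx (hV x h)) g' hg'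
  refine ⟨g, ⟨hg, by rw [← Scheme.homOfLE_ι X hUV, Category.assoc, hgV, hg'U]⟩, fun g₂ hg₂ => ?_⟩
  haveI : IsDominant U.ι := ⟨by show Dense (Set.range U.ι); rw [Scheme.Opens.range_ι]; exact hU⟩
  exact ext_of_isDominant_of_isSeparated pG (hg₂.1.trans hg.symm) U.ι
    (by rw [hg₂.2, ← Scheme.homOfLE_ι X hUV, Category.assoc, hgV, hg'U])

/-- A morphism on the generic fibre extends to a proper group scheme. -/
theorem existsUnique_extension_of_genericFibre [Smooth pX] [GrpObj (Over.mk pG)] [IsProper pG]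
    (u : pullback pX (Spec.map (CommRingCat.ofHom (algebraMap R (FractionRing R)))) ⟶ G)
    (hu : u ≫ pG = pullback.snd pX _ ≫ Spec.map (CommRingCat.ofHom (algebraMap R (FractionRing R)))) :
    ∃! g : X ⟶ G, g ≫ pG = pX ∧ pullback.fst pX _ ≫ g = u := by
  let j := Spec.map (CommRingCat.ofHom (algebraMap R (FractionRing R)))
  let F := pullback pX j
  let fst : F ⟶ X := pullback.fst pX j
  haveI : IsLocallyNoetherian X := LocallyOfFiniteType.isLocallyNoetherian pX
  have hreg := isRegularLocalRing_stalk_of_smooth pX isRegularLocalRing_stalk_dedekind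
  haveI : IsReduced X := isReduced_of_isRegular X hreg
  haveI : IsReduced F := GrothLib.RedSmooth.isReduced_of_smooth (pullback.snd pX j)
  let η : Spec (CommRingCat.of R) := (⟨⊥, Ideal.isPrime_bot⟩ : PrimeSpectrum R)
  haveI : IsPreimmersion j := IsPreimmersion.of_isLocalization (nonZeroDivisors R)
  haveI : IsPreimmersion fst := MorphismProperty.pullback_fst _ _ inferInstance
  -- maximal points lie over the generic point
  have hmaxη : ∀ x : X, (∀ y, y ⤳ x → y = x) → pX x = η := by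
    intro x hx
    obtain ⟨y, hy, hy'⟩ := Flat.generalizingMap pX
      (show η ⤳ pX x from (PrimeSpectrum.le_iff_specializes η (pX x)).mp (bot_le (a := (pX x).asIdeal)))
    rw [← hx y hy]; exact hy'
  -- lifting local schemes at points over the generic point
  have hlift : ∀ x : X, pX x = η → ∃ l : Spec (X.presheaf.stalk x) ⟶ F, l ≫ fst = X.fromSpecStalk x := by
    intro x hx
    obtain ⟨φ, hφ⟩ := Spec.map_surjective (X.fromSpecStalk x ≫ pX)
    have hunit : ∀ r : nonZeroDivisors R, IsUnit (φ.hom (r : R)) := by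
      intro r
      by_contra h
      have hmem : (r : R) ∈ (Spec.map φ (IsLocalRing.closedPoint (X.presheaf.stalk x))).asIdeal := h
      rw [hφ, Scheme.Hom.comp_apply, Scheme.fromSpecStalk_closedPoint, hx] at hmem
      exact nonZeroDivisors.ne_zero r.2 ((Submodule.mem_bot R).mp hmem)
    let ψ : FractionRing R →+* X.presheaf.stalk x := IsLocalization.lift hunit
    refine ⟨pullback.lift (X.fromSpecStalk x) (Spec.map (CommRingCat.ofHom ψ)) ?_, pullback.lift_fst _ _ _⟩
    rw [← hφ, ← Spec.map_comp]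
    congr 1
    exact (CommRingCat.hom_ext (IsLocalization.lift_comp hunit)).symm
  -- local extensions
  have hloc : ∀ v : F, ∃ (V : X.Opens) (g : (V : Scheme.{u}) ⟶ G), fst v ∈ V ∧ g ≫ pG = V.ι ≫ pX ∧
      fst.resLE V (fst ⁻¹ᵁ V) le_rfl ≫ g = (fst ⁻¹ᵁ V).ι ≫ u := by
    intro v
    let x := fst v
    have hx : pX x = η := by
      show pX (fst v) = η
      rw [← Scheme.Hom.comp_apply, pullback.condition, Scheme.Hom.comp_apply]
      exact PrimeSpectrum.ext (by
        have h0 : (pullback.snd pX j v).asIdeal = ⊥ :=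
          (Ideal.eq_bot_or_top _).resolve_right (pullback.snd pX j v).isPrime.ne_top
        show Ideal.comap _ (pullback.snd pX j v).asIdeal = ⊥
        rw [h0]
        exact Ideal.comap_bot_of_injective _ (IsFractionRing.injective R (FractionRing R)))
    obtain ⟨l, hl⟩ := hlift x hx
    let h := l ≫ u
    have hh : h ≫ pG = X.fromSpecStalk x ≫ pX := by
      rw [← hl, Category.assoc, Category.assoc, hu, ← pullback.condition]
    have hcl : pX x = pG (h (closedPoint (X.presheaf.stalk x))) := by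
      rw [← Scheme.Hom.comp_apply h pG, hh, Scheme.Hom.comp_apply, Scheme.fromSpecStalk_closedPoint]
    haveI : LocallyOfFinitePresentation pG := GrothLib.LocProp.locallyOfFinitePresentation_of_isLocallyNoetherian pG
    obtain ⟨V₁, hxV₁, g₁, hg₁, hg₁S⟩ := GrothLib.SpreadOut.spread_out pX pG hcl (Scheme.stalkClosedPointTo h) (by
      apply Spec.map_injective
      rw [← cancel_mono ((Spec (CommRingCat.of R)).fromSpecStalk _)]
      simp only [Spec.map_comp, Category.assoc, Scheme.SpecMap_stalkMap_fromSpecStalk,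
        Scheme.SpecMap_stalkSpecializes_fromSpecStalk]
      rw [← Category.assoc]
      exact (congrArg (fun t => t ≫ pG) (Scheme.Spec_stalkClosedPointTo_fromSpecStalk h)).trans hh)
    rw [Scheme.Spec_stalkClosedPointTo_fromSpecStalk] at hg₁
    haveI := hreg x
    haveI : IsDomain (X.presheaf.stalk x) := GrothLib.CMFree.isDomain_of_isRegularLocalRing _
    obtain ⟨V₂, hxV₂, hirr⟩ := GrothLib.LocNoeth.exists_irreducible_nhd x (by rw [nilradical_eq_zero]; exact Ideal.isPrime_bot)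
    let V := V₁ ⊓ V₂
    refine ⟨V, X.homOfLE inf_le_left ≫ g₁, ⟨hxV₁, hxV₂⟩, ?_, ?_⟩
    · rw [Category.assoc, hg₁S, Scheme.homOfLE_ι_assoc]
    have hsub : Set.range l ⊆ Set.range (fst ⁻¹ᵁ V).ι := by
      rintro _ ⟨r, rfl⟩
      rw [Scheme.Opens.range_ι]
      show fst (l r) ∈ V
      rw [← Scheme.Hom.comp_apply, hl]
      have : X.fromSpecStalk x r ∈ Set.range (X.fromSpecStalk x) := ⟨r, rfl⟩
      rw [Scheme.range_fromSpecStalk] at this
      exact Specializes.mem_open this V.2 ⟨hxV₁, hxV₂⟩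
    let lV := IsOpenImmersion.lift (fst ⁻¹ᵁ V).ι l hsub
    have hlV : lV ≫ (fst ⁻¹ᵁ V).ι = l := IsOpenImmersion.lift_fac _ _ _
    haveI : IsDominant lV := ⟨by
      intro p
      obtain ⟨ρ, hρ⟩ : ∃ ρ, IsGenericPoint ρ (closure (V₂ : Set X)) := QuasiSober.sober hirr.closure isClosed_closure
      obtain ⟨r, hr⟩ : ρ ∈ Set.range (X.fromSpecStalk x) := by
        rw [Scheme.range_fromSpecStalk]; exact hρ.specializes (subset_closure hxV₂)
      have h1 : fst ((fst ⁻¹ᵁ V).ι (lV r)) = ρ := by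
        rw [← Scheme.Hom.comp_apply lV, hlV, ← Scheme.Hom.comp_apply, hl, hr]
      have h2 : ρ ⤳ fst ((fst ⁻¹ᵁ V).ι p) := hρ.specializes (subset_closure p.2.2)
      rw [← h1, fst.isEmbedding.isInducing.specializes_iff, (fst ⁻¹ᵁ V).ι.isOpenEmbedding.isInducing.specializes_iff] at h2
      exact h2.mem_closed isClosed_closure (subset_closure ⟨r, rfl⟩)⟩
    refine ext_of_isDominant_of_isSeparated pG ?_ lV ?_
    · simp only [Category.assoc, hg₁S, hu, Scheme.homOfLE_ι_assoc, Scheme.Hom.resLE_comp_ι_assoc]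
      rw [pullback.condition]
    · have e1 : lV ≫ fst.resLE V (fst ⁻¹ᵁ V) le_rfl ≫ X.homOfLE (inf_le_left : V ≤ V₁) = V₁.fromSpecStalkOfMem x hxV₁ := by
        rw [← cancel_mono V₁.ι]
        simp only [Category.assoc, Scheme.homOfLE_ι, Scheme.Hom.resLE_comp_ι, Scheme.Opens.fromSpecStalkOfMem_ι, reassoc_of% hlV, hl]
      rw [reassoc_of% e1, reassoc_of% hlV, ← hg₁]
  choose V g hvV hgS hgu using hloc
  have hdense : ∀ W : X.Opens, (∀ x ∈ W, ∀ y, y ⤳ x → (∀ z, z ⤳ y → z = y) → y ∈ Set.range fst) →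
      IsDominant (fst.resLE W (fst ⁻¹ᵁ W) le_rfl) := fun W hW => ⟨by
    intro w
    obtain ⟨m, hm, hmw⟩ := GrothLib.LocNoeth.exists_maximal_specializes (W.ι w)
    have hmax : ∀ z, z ⤳ m → z = m := fun z hz =>
      (hz.antisymm (specializes_iff_closure_subset.mpr (hm.2 isIrreducible_singleton.closure hz.closure_subset))).eq
    obtain ⟨v, hv⟩ := hW _ w.2 m hmw hmax
    have hvW : fst v ∈ W := hv ▸ hmw.mem_open W.2 w.2
    have h1 : W.ι (fst.resLE W (fst ⁻¹ᵁ W) le_rfl ⟨v, hvW⟩) = m := by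
      rw [← Scheme.Hom.comp_apply, Scheme.Hom.resLE_comp_ι, Scheme.Hom.comp_apply]; exact hv
    rw [← h1, W.ι.isOpenEmbedding.isInducing.specializes_iff] at hmw
    exact hmw.mem_closed isClosed_closure (subset_closure ⟨_, rfl⟩)⟩
  have hrange : ∀ y : X, (∀ z, z ⤳ y → z = y) → y ∈ Set.range fst := by
    intro y hy
    rw [Scheme.Pullback.range_fst]
    exact ⟨(⟨⊥, Ideal.isPrime_bot⟩ : PrimeSpectrum (FractionRing R)), (hmaxη y hy).symm ▸ PrimeSpectrum.ext
      (Ideal.comap_bot_of_injective _ (IsFractionRing.injective R (FractionRing R)))⟩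
  let U : X.Opens := ⨆ v, V v
  have hUd : Dense (U : Set X) := by
    intro x
    obtain ⟨m, hm, hmx⟩ := GrothLib.LocNoeth.exists_maximal_specializes x
    obtain ⟨v, hv⟩ := hrange m fun z hz =>
      (hz.antisymm (specializes_iff_closure_subset.mpr (hm.2 isIrreducible_singleton.closure hz.closure_subset))).eq
    exact hmx.mem_closed isClosed_closure (subset_closure (Opens.mem_iSup.mpr ⟨v, hv ▸ hvV v⟩))
  have hagree : ∀ (T : X.Opens) (a b : (T : Scheme.{u}) ⟶ G), a ≫ pG = T.ι ≫ pX → b ≫ pG = T.ι ≫ pX →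
      fst.resLE T (fst ⁻¹ᵁ T) le_rfl ≫ a = fst.resLE T (fst ⁻¹ᵁ T) le_rfl ≫ b → a = b := fun T a b ha hb hab => by
    haveI := hdense T fun x _ y _ hy => hrange y hy
    exact ext_of_isDominant_of_isSeparated pG (ha.trans hb.symm) _ hab
  have hres : ∀ (v : F) (T : X.Opens) (hT : T ≤ V v),
      fst.resLE T (fst ⁻¹ᵁ T) le_rfl ≫ X.homOfLE hT ≫ g v = (fst ⁻¹ᵁ T).ι ≫ u := fun v T hT => by
    have : fst.resLE T (fst ⁻¹ᵁ T) le_rfl ≫ X.homOfLE hT = F.homOfLE (fun a ha => hT ha) ≫ fst.resLE (V v) (fst ⁻¹ᵁ V v) le_rfl := by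
      rw [← cancel_mono (V v).ι]; simp
    rw [reassoc_of% this, hgu, Scheme.homOfLE_ι_assoc]
  have hcov : ⨆ v, (U.ι ⁻¹ᵁ V v) = ⊤ := eq_top_iff.mpr fun a _ => by
    obtain ⟨v, hv⟩ := Opens.mem_iSup.mp a.2
    exact Opens.mem_iSup.mpr ⟨v, hv⟩
  let 𝒰 : (U : Scheme.{u}).OpenCover := (U : Scheme.{u}).openCoverOfIsOpenCover _ (TopologicalSpace.IsOpenCover.mk hcov)
  let lo : ∀ v, ((U.ι ⁻¹ᵁ V v : (U : Scheme.{u}).Opens) : Scheme.{u}) ⟶ V v := fun v => U.ι.resLE (V v) (U.ι ⁻¹ᵁ V v) le_rfl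
  have hlo : ∀ v, lo v ≫ (V v).ι = (U.ι ⁻¹ᵁ V v).ι ≫ U.ι := fun v => Scheme.Hom.resLE_comp_ι _ _
  have hcompat : ∀ a b : F, pullback.fst (U.ι ⁻¹ᵁ V a).ι (U.ι ⁻¹ᵁ V b).ι ≫ lo a ≫ g a =
      pullback.snd (U.ι ⁻¹ᵁ V a).ι (U.ι ⁻¹ᵁ V b).ι ≫ lo b ≫ g b := by
    intro a b
    let T := V a ⊓ V b
    have hT := hagree T (X.homOfLE inf_le_left ≫ g a) (X.homOfLE inf_le_right ≫ g b)
      (by rw [Category.assoc, hgS, Scheme.homOfLE_ι_assoc]) (by rw [Category.assoc, hgS, Scheme.homOfLE_ι_assoc])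
      (by rw [hres a T, hres b T])
    let k := pullback.fst (U.ι ⁻¹ᵁ V a).ι (U.ι ⁻¹ᵁ V b).ι ≫ lo a ≫ (V a).ι
    have hk : k = pullback.snd (U.ι ⁻¹ᵁ V a).ι (U.ι ⁻¹ᵁ V b).ι ≫ lo b ≫ (V b).ι := by
      simp only [k, hlo, pullback.condition_assoc]
    have hr : Set.range k ⊆ Set.range T.ι := by
      rintro _ ⟨w, rfl⟩
      rw [Scheme.Opens.range_ι]
      refine ⟨?_, ?_⟩
      · show k w ∈ V a
        simp only [k, Scheme.Hom.comp_apply]
        exact (lo a _).2
      · show k w ∈ V b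
        rw [hk]
        simp only [Scheme.Hom.comp_apply]
        exact (lo b _).2
    have hl := IsOpenImmersion.lift_fac _ _ hr
    have e1 : IsOpenImmersion.lift T.ι k hr ≫ X.homOfLE inf_le_left = pullback.fst _ _ ≫ lo a := by
      rw [← cancel_mono (V a).ι, Category.assoc, Category.assoc, Scheme.homOfLE_ι, hl]
    have e2 : IsOpenImmersion.lift T.ι k hr ≫ X.homOfLE inf_le_right = pullback.snd _ _ ≫ lo b := by
      rw [← cancel_mono (V b).ι, Category.assoc, Category.assoc, Scheme.homOfLE_ι, hl, hk]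
    rw [← reassoc_of% e1, ← reassoc_of% e2, hT]
  let f : (U : Scheme.{u}) ⟶ G := 𝒰.glueMorphisms (fun v => lo v ≫ g v) hcompat
  have hfv : ∀ v, (U.ι ⁻¹ᵁ V v).ι ≫ f = lo v ≫ g v := fun v => 𝒰.ι_glueMorphisms _ hcompat v
  have hfS : f ≫ pG = U.ι ≫ pX := Scheme.Cover.hom_ext 𝒰 _ _ fun v => by
    show (U.ι ⁻¹ᵁ V v).ι ≫ f ≫ pG = (U.ι ⁻¹ᵁ V v).ι ≫ U.ι ≫ pX
    rw [reassoc_of% (hfv v), hgS, reassoc_of% (hlo v)]
  obtain ⟨G₀, ⟨hG₀, hG₀U⟩, -⟩ := existsUnique_extension_of_isProper pX pG U hUd f hfS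
  have hfst : fst ≫ G₀ = u := by
    have hcovF : ⨆ v, fst ⁻¹ᵁ V v = ⊤ := eq_top_iff.mpr fun v _ => Opens.mem_iSup.mpr ⟨v, hvV v⟩
    refine Scheme.Cover.hom_ext (F.openCoverOfIsOpenCover _ (TopologicalSpace.IsOpenCover.mk hcovF)) _ _ fun v => ?_
    show (fst ⁻¹ᵁ V v).ι ≫ fst ≫ G₀ = (fst ⁻¹ᵁ V v).ι ≫ u
    rw [← hgu v, ← Scheme.Hom.resLE_comp_ι_assoc fst (le_refl (fst ⁻¹ᵁ V v))]
    congr 1
    have hVU : V v ≤ U := le_iSup V v
    let s : ((V v : X.Opens) : Scheme.{u}) ⟶ ((U.ι ⁻¹ᵁ V v : (U : Scheme.{u}).Opens) : Scheme.{u}) :=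
      IsOpenImmersion.lift (U.ι ⁻¹ᵁ V v).ι (X.homOfLE hVU) (by
        rintro _ ⟨w, rfl⟩
        rw [Scheme.Opens.range_ι]
        show U.ι _ ∈ V v
        rw [← Scheme.Hom.comp_apply, Scheme.homOfLE_ι]
        exact w.2)
    have hs : s ≫ (U.ι ⁻¹ᵁ V v).ι = X.homOfLE hVU := IsOpenImmersion.lift_fac _ _ _
    have hs' : s ≫ lo v = 𝟙 _ := by
      rw [← cancel_mono (V v).ι, Category.assoc, hlo, reassoc_of% hs, Scheme.homOfLE_ι, Category.id_comp]
    rw [← Scheme.homOfLE_ι X hVU, Category.assoc, hG₀U, ← hs, Category.assoc, hfv, reassoc_of% hs']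
  refine ⟨G₀, ⟨hG₀, hfst⟩, fun g₂ hg₂ => ?_⟩
  haveI : IsDominant fst := ⟨by
    intro x
    obtain ⟨m, hm, hmx⟩ := GrothLib.LocNoeth.exists_maximal_specializes x
    exact hmx.mem_closed isClosed_closure (subset_closure (hrange m fun z hz =>
      (hz.antisymm (specializes_iff_closure_subset.mpr (hm.2 isIrreducible_singleton.closure hz.closure_subset))).eq))⟩
  exact ext_of_isDominant_of_isSeparated pG (hg₂.1.trans hG₀.symm) fst (hg₂.2.trans hfst.symm)

end GrothLib.WeilExt
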