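import Groth.Agent.Lib.RegLoc.Basic
import Groth.Agent.Lib.CMFree.Params
import Groth.Agent.Lib.BlowUp.UFD
import Mathlib

/-!
# Polar loci in regular local rings meet regular subschemes in codimension one
-/

universe u

open IsLocalRing RingTheory.Sequence

namespace GrothLib.WeilExt

variable {A : Type u} [CommRing A]

/-- An associated prime of a principal ideal of a regular local ring has coheight at least `dim A - 1`. -/
theorem pred_dim_le_ringKrullDim_quotient [IsRegularLocalRing A] {n : ℕ} (hn : ringKrullDim A = n)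
    {b : A} (hb0 : b ≠ 0) (hb : b ∈ maximalIdeal A) (P : Ideal A)
    (hP : P ∈ associatedPrimes A (A ⧸ Ideal.span {b})) :
    ((n - 1 : ℕ) : WithBot ℕ∞) ≤ ringKrullDim (A ⧸ P) := by
  have := GrothLib.CMFree.isDomain_of_isRegularLocalRing A
  let A' := A ⧸ Ideal.span {b}
  have hle : Ideal.span {b} ≤ maximalIdeal A := (Ideal.span_singleton_le_iff_mem _).mpr hb
  haveI : IsLocalRing A' := GrothLib.RegLoc.isLocalRing_quotient hle
  obtain ⟨e, he, -⟩ := GrothLib.RegLoc.exists_dim_eq (R := A')
  have h1 := ringKrullDim_quotient_span_singleton_succ_eq_ringKrullDim_of_mem_nonZeroDivisors (mem_nonZeroDivisors_of_ne_zero hb0) hb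
  rw [he, hn] at h1
  have hen : e + 1 = n := by exact_mod_cast h1
  obtain ⟨s, hs, hcard⟩ := (maximalIdeal A').exists_finset_card_eq_height_of_isNoetherianRing
  replace hcard : s.card = e := by
    have := (IsLocalRing.maximalIdeal_height_eq_ringKrullDim (R := A'))
    rw [← hcard, he] at this
    exact_mod_cast this
  choose g hg using Ideal.Quotient.mk_surjective (I := Ideal.span {b})
  let rs : List A := s.toList.map g
  let L : List A := b :: rs
  have hrsm : ∀ r ∈ rs, r ∈ maximalIdeal A := by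
    intro r hr
    obtain ⟨x, hx, rfl⟩ := List.mem_map.mp hr
    have : Ideal.Quotient.mk (Ideal.span {b}) (g x) ∈ maximalIdeal A' := by
      rw [hg]; exact hs.1.2 (Ideal.subset_span (Finset.mem_toList.mp hx))
    rwa [← GrothLib.RegLoc.map_maximalIdeal_quotient (Ideal.span {b}), Ideal.mem_quotient_iff_mem hle] at this
  have hne : Ideal.ofList L ≠ ⊤ := ne_top_of_le_ne_top (maximalIdeal.isMaximal A).ne_top (Ideal.span_le.mpr fun r hr => by
    rcases List.mem_cons.mp hr with rfl | hr
    · exact hb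
    · exact hrsm r hr)
  have hdim0 : ringKrullDim (A ⧸ Ideal.ofList L) ≤ 0 := by
    have hK : Ideal.span (s : Set A') = (Ideal.ofList L).map (Ideal.Quotient.mk (Ideal.span {b})) := by
      rw [Ideal.map_ofList]
      show _ = Ideal.span _
      simp only [L, rs, List.map_cons, List.map_map, List.mem_cons, Ideal.Quotient.eq_zero_iff_mem.mpr (Ideal.mem_span_singleton_self b)]
      have : (Ideal.Quotient.mk (Ideal.span {b}) ∘ g) = id := funext hg
      rw [this, List.map_id]
      rw [show {r : A' | r = 0 ∨ r ∈ s.toList} = insert 0 (s : Set A') by ext; simp]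
      rw [Ideal.span_insert, Ideal.span_singleton_eq_bot.mpr rfl, bot_sup_eq]
    have hbL : Ideal.span {b} ≤ Ideal.ofList L := (Ideal.span_singleton_le_iff_mem _).mpr (Ideal.subset_span List.mem_cons_self)
    rw [← ringKrullDim_eq_of_ringEquiv ((DoubleQuot.quotQuotEquivQuotOfLE hbL)), ← hK]
    rw [ringKrullDim_quotient]
    refine Order.krullDim_nonpos_iff_forall_isMax.mpr fun x y hxy => ?_
    show y.1.asIdeal ≤ x.1.asIdeal
    have hx : maximalIdeal A' ≤ x.1.asIdeal := hs.2 ⟨x.1.isPrime, fun r hr => x.2 hr⟩ (le_maximalIdeal x.1.isPrime.ne_top)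
    exact (le_maximalIdeal y.1.isPrime.ne_top).trans hx
  have hL : L.length = n := by simp [L, rs, ← hen]; exact hcard
  have hreg := GrothLib.CMFree.isRegular_of_ringKrullDim_quotient A L hne (by
    rw [hn, hL]
    calc ringKrullDim (A ⧸ Ideal.ofList L) + (n : WithBot ℕ∞) ≤ 0 + n := by gcongr
      _ = n := zero_add _)
  have hw := ((isWeaklyRegular_cons_iff A b rs).mp hreg.toIsWeaklyRegular).2
  have e2 : QuotSMulTop b A ≃ₗ[A] A' := Submodule.quotEquivOfEq _ _ (by
    rw [← Submodule.ideal_span_singleton_smul, smul_eq_mul, Ideal.mul_top])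
  have := GrothLib.CMFree.length_le_ringKrullDim_quotient rs hrsm A' ((e2.isWeaklyRegular_congr rs).mp hw) P hP
  rwa [show rs.length = n - 1 by simp [L] at hL; omega] at this

/-- If a fraction is not defined at the closed point, it is undefined at a point of the closed subscheme
cut out by `I` of codimension at most one in it. -/
theorem exists_prime_of_not_mem [IsRegularLocalRing A] [IsDomain A] (I : Ideal A) [IsRegularLocalRing (A ⧸ I)]
    (K : Type*) [Field K] [Algebra A K] [IsFractionRing A K] (φ : K) (hφ : ∀ a : A, algebraMap A K a ≠ φ) :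
    ∃ q : Ideal A, q.IsPrime ∧ I ≤ q ∧ (q.map (Ideal.Quotient.mk I)).height ≤ 1 ∧
      ∀ a s : A, s ∉ q → φ * algebraMap A K s ≠ algebraMap A K a := by
  obtain ⟨n, hn, -⟩ := GrothLib.RegLoc.exists_dim_eq (R := A)
  obtain ⟨⟨a, ⟨b, hb0⟩⟩, hab⟩ := IsLocalization.surj (nonZeroDivisors A) φ
  simp only at hab
  have hb0' : b ≠ 0 := nonZeroDivisors.ne_zero hb0
  have hb : b ∈ maximalIdeal A := by
    by_contra hb
    obtain ⟨u, hu⟩ : IsUnit b := not_not.mp hb
    refine hφ (a * ↑u⁻¹) ?_
    rw [map_mul, ← hab, mul_assoc, ← map_mul, ← hu, Units.mul_inv, map_one, mul_one]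
  have ha : a ∉ Ideal.span {b} := by
    intro ha
    obtain ⟨c, rfl⟩ := Ideal.mem_span_singleton'.mp ha
    refine hφ c (mul_right_cancel₀ (fun h0 => hb0' (IsFractionRing.injective A K (h0.trans (map_zero _).symm))) ?_)
    rw [hab, map_mul]
  obtain ⟨P, hP, hle⟩ := exists_le_isAssociatedPrime_of_isNoetherianRing A (Ideal.Quotient.mk (Ideal.span {b}) a)
    (fun h => ha (Ideal.Quotient.eq_zero_iff_mem.mp h))
  have hPp := hP.isPrime
  have hdim := pred_dim_le_ringKrullDim_quotient hn hb0' hb P ((AssociatedPrimes.mem_iff).mpr hP)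
  have hcolon : ∀ t : A, t * a ∈ Ideal.span {b} → t ∈ P := fun t ht => hle (by
    rw [Submodule.mem_colon_singleton, Submodule.mem_bot, Algebra.smul_def, Ideal.Quotient.algebraMap_eq, ← map_mul, Ideal.Quotient.eq_zero_iff_mem]
    exact ht)
  -- equations for `I`
  obtain ⟨x, c, hc, hx, hI, hcd⟩ := GrothLib.RegLoc.exists_generators_quotient _ A rfl I
  have hIm : I ≤ maximalIdeal A := by
    refine hI.le.trans (le_trans ?_ hx.le); exact Ideal.span_mono (Set.range_comp_subset_range (Fin.castLE hc) x)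
  obtain ⟨m, hm, hm'⟩ := GrothLib.RegLoc.exists_dim_eq (R := A ⧸ I)
  have hmc : m + c ≤ n := by
    have := (IsRegularLocalRing.spanFinrank_maximalIdeal (R := A))
    rw [hn] at this
    have : (maximalIdeal A).spanFinrank = n := by exact_mod_cast this
    omega
  haveI : IsLocalRing (A ⧸ P) := GrothLib.RegLoc.isLocalRing_quotient (le_maximalIdeal hPp.ne_top)
  let IP := I.map (Ideal.Quotient.mk P)
  have hIP : IP = Ideal.span (Set.range fun i : Fin c => Ideal.Quotient.mk P (x (Fin.castLE hc i))) := by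
    simp only [IP]
    rw [hI, Ideal.map_span, ← Set.range_comp]; rfl
  have hj : IP ≤ Ring.jacobson (A ⧸ P) := by
    rw [IsLocalRing.ringJacobson_eq_maximalIdeal, ← GrothLib.RegLoc.map_maximalIdeal_quotient P]
    exact Ideal.map_mono hIm
  have h2 := (ringKrullDim_le_ringKrullDim_quotient_add_spanFinrank IP hj)
  have hsp : IP.spanFinrank ≤ c := hIP ▸ GrothLib.RegLoc.spanFinrank_le_of_span _ rfl
  have h3 : ((m - 1 : ℕ) : WithBot ℕ∞) ≤ ringKrullDim ((A ⧸ P) ⧸ IP) := by
    have h4 : ((n - 1 : ℕ) : WithBot ℕ∞) ≤ ringKrullDim ((A ⧸ P) ⧸ IP) + (c : WithBot ℕ∞) :=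
      hdim.trans (h2.trans (by gcongr))
    revert h4
    generalize ringKrullDim ((A ⧸ P) ⧸ IP) = D
    intro h4
    induction D with
    | bot => simp at h4
    | coe D =>
      induction D with
      | top => exact WithBot.coe_le_coe.mpr le_top
      | coe D =>
        have : n - 1 ≤ D + c := by
          have h4' : (((n - 1 : ℕ) : ℕ∞) : WithBot ℕ∞) ≤ (((D + c : ℕ) : ℕ∞) : WithBot ℕ∞) := h4
          exact ENat.coe_le_coe.mp (WithBot.coe_le_coe.mp h4')
        exact WithBot.coe_le_coe.mpr (ENat.coe_le_coe.mpr (show m - 1 ≤ D by omega))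
  haveI hnt : Nontrivial (A ⧸ I) := inferInstance
  have h5 : ((m - 1 : ℕ) : WithBot ℕ∞) ≤ ringKrullDim ((A ⧸ I) ⧸ P.map (Ideal.Quotient.mk I)) := by
    refine h3.trans (le_of_eq (ringKrullDim_eq_of_ringEquiv ?_))
    exact (DoubleQuot.quotQuotEquivComm P I)
  obtain ⟨q', hq', hPq, hht⟩ : ∃ q' : Ideal (A ⧸ I), q'.IsPrime ∧ P.map (Ideal.Quotient.mk I) ≤ q' ∧ q'.height ≤ 1 := by
    rw [ringKrullDim_quotient] at h5
    obtain ⟨l, hl⟩ := Order.le_krullDim_iff.mp h5
    refine ⟨l.head.1.asIdeal, l.head.1.isPrime, fun r hr => l.head.2 hr, ?_⟩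
    rw [PrimeSpectrum.height_eq_orderHeight]
    by_contra h
    obtain ⟨t, ht, htl⟩ := Order.exists_series_of_le_height l.head.1 (n := 2) (by
      exact Order.add_one_le_of_lt (not_le.mp h))
    let l' : LTSeries (PrimeSpectrum (A ⧸ I)) := l.map Subtype.val (fun _ _ h => h)
    have hk := Order.LTSeries.length_le_krullDim (t.smash l' ht)
    rw [show Order.krullDim (PrimeSpectrum (A ⧸ I)) = ringKrullDim (A ⧸ I) from rfl, hm] at hk
    have : 2 + (m - 1) ≤ m := by
      rw [RelSeries.smash_length, htl] at hk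
      simp only [l', LTSeries.map_length, hl] at hk
      exact_mod_cast hk
    omega
  refine ⟨q'.comap (Ideal.Quotient.mk I), Ideal.IsPrime.comap _, ?_, ?_, ?_⟩
  · intro r hr
    rw [Ideal.mem_comap, Ideal.Quotient.eq_zero_iff_mem.mpr hr]; exact q'.zero_mem
  · rw [Ideal.map_comap_of_surjective _ Ideal.Quotient.mk_surjective]; exact hht
  · intro a' s hs he
    refine hs (Ideal.le_comap_of_map_le hPq (hcolon s ?_))
    refine Ideal.mem_span_singleton'.mpr ⟨a', IsFractionRing.injective A K ?_⟩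
    rw [map_mul, map_mul, ← he, ← hab]; ring

end GrothLib.WeilExt
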