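import Groth.Agent.Lib.WeilExt.Core
import Groth.Agent.Lib.LocNoeth.Scheme
import Groth.Agent.Lib.SpreadOut.Basic
import Groth.Agent.Lib.LocProp.SmoothRegularScheme
import Mathlib

/-!
# Extension of a morphism over the neighbourhood of an embedded subscheme
-/

universe u

open CategoryTheory AlgebraicGeometry IsLocalRing TopologicalSpace

namespace GrothLib.WeilExt

/-- Points of `Spec O_{X,x}` of height at most one give points with local ring of dimension at most one. -/
theorem ringKrullDim_stalk_le_of_height {X : Scheme.{u}} (x : X) (q : PrimeSpectrum (X.presheaf.stalk x))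
    (hq : q.asIdeal.height ≤ 1) :
    ringKrullDim (X.presheaf.stalk (X.fromSpecStalk x q)) ≤ 1 := by
  obtain ⟨_, ⟨U, hU, rfl⟩, hxU, -⟩ :=
    X.isBasis_affineOpens.exists_subset_of_mem_open (Set.mem_univ x) isOpen_univ
  have hy : X.fromSpecStalk x q ⤳ x := by
    have : X.fromSpecStalk x q ∈ Set.range (X.fromSpecStalk x) := ⟨q, rfl⟩
    rwa [Scheme.range_fromSpecStalk] at this
  have hyU : X.fromSpecStalk x q ∈ U := hy.mem_open U.2 hxU
  letI := TopCat.Presheaf.algebra_section_stalk X.presheaf (U := U) ⟨_, hyU⟩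
  haveI := hU.isLocalization_stalk ⟨_, hyU⟩
  letI := TopCat.Presheaf.algebra_section_stalk X.presheaf (U := U) ⟨x, hxU⟩
  haveI := hU.isLocalization_stalk ⟨x, hxU⟩
  rw [IsLocalization.AtPrime.ringKrullDim_eq_height (hU.primeIdealOf ⟨_, hyU⟩).asIdeal]
  have he : hU.primeIdealOf ⟨_, hyU⟩ = Spec.map (X.presheaf.germ U x hxU) q := by
    apply hU.fromSpec.isOpenEmbedding.injective
    rw [hU.fromSpec_primeIdealOf]
    exact congr($((hU.fromSpecStalk_eq_fromSpecStalk hxU).symm) q)
  rw [he]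
  show (((q.asIdeal.comap (algebraMap Γ(X, U) (X.presheaf.stalk x))).height : ℕ∞) : WithBot ℕ∞) ≤ 1
  rw [IsLocalization.height_under (hU.primeIdealOf ⟨x, hxU⟩).asIdeal.primeCompl]
  exact_mod_cast hq

variable {S P G X : Scheme.{u}} [IsLocallyNoetherian S] [IsLocallyNoetherian P] [IsReduced P] [S.IsSeparated]
  (pP : P ⟶ S) (pG : G ⟶ S) [IsSeparated pG] [LocallyOfFiniteType pG]
  (Δ : X ⟶ P) [IsPreimmersion Δ]

/-- A morphism to a separated scheme locally of finite type, equal to a section along an embedded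
subscheme `X` and defined at its points of codimension at most one, is defined near all of `X`. -/
theorem exists_extension_nhd_of_section (e : S ⟶ G) (he : e ≫ pG = 𝟙 S) (W₀ : P.Opens) (Φ : (W₀ : Scheme.{u}) ⟶ G)
    (hΦ : Φ ≫ pG = W₀.ι ≫ pP) (x : X) [IsRegularLocalRing (P.presheaf.stalk (Δ x))]
    [IsRegularLocalRing (X.presheaf.stalk x)]
    (hcod : ∀ y : X, y ⤳ x → ringKrullDim (X.presheaf.stalk y) ≤ 1 → Δ y ∈ W₀)
    (heq : ∀ (y : X) (hy : Δ y ∈ W₀), Φ ⟨Δ y, hy⟩ = e (pP (Δ y))) :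
    ∃ (V : P.Opens) (g : (V : Scheme.{u}) ⟶ G), Δ x ∈ V ∧ g ≫ pG = V.ι ≫ pP ∧
      P.homOfLE (inf_le_left : V ⊓ W₀ ≤ V) ≫ g = P.homOfLE (inf_le_right : V ⊓ W₀ ≤ W₀) ≫ Φ := by
  let z := Δ x
  let A := P.presheaf.stalk z
  let B := X.presheaf.stalk x
  haveI : IsDomain A := GrothLib.CMFree.isDomain_of_isRegularLocalRing A
  haveI : IsDomain B := GrothLib.CMFree.isDomain_of_isRegularLocalRing B
  let sm : A →+* B := (Δ.stalkMap x).hom
  have hsm : Function.Surjective sm := Δ.stalkMap_surjective x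
  let I := RingHom.ker sm
  let eB : A ⧸ I ≃+* B := RingHom.quotientKerEquivOfSurjective hsm
  haveI : IsRegularLocalRing (A ⧸ I) := IsRegularLocalRing.of_ringEquiv (R := B) eB.symm
  let ιA := P.fromSpecStalk z
  -- a generalisation of `x` and the corresponding point of `Spec A`
  have hpt : ∀ q : PrimeSpectrum B, ιA (PrimeSpectrum.comap sm q) = Δ (X.fromSpecStalk x q) := fun q =>
    congr($(Scheme.SpecMap_stalkMap_fromSpecStalk Δ (x := x)) q)
  have hgen : ∀ q : PrimeSpectrum B, X.fromSpecStalk x q ⤳ x := fun q => by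
    have : X.fromSpecStalk x q ∈ Set.range (X.fromSpecStalk x) := ⟨q, rfl⟩
    rwa [Scheme.range_fromSpecStalk] at this
  have hspec : ∀ r q : PrimeSpectrum A, r.asIdeal ≤ q.asIdeal → ιA r ⤳ ιA q := fun r q h =>
    ((PrimeSpectrum.le_iff_specializes r q).mp h).map ιA.continuous
  let K := FractionRing A
  let η : PrimeSpectrum A := ⟨⊥, Ideal.isPrime_bot⟩
  obtain ⟨_, ⟨We, hWe, rfl⟩, hze, -⟩ :=
    G.isBasis_affineOpens.exists_subset_of_mem_open (Set.mem_univ (e (pP z))) isOpen_univ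
  -- morphisms from localisations of `A` at points of `X` of codimension at most one
  have hloc : ∀ q : PrimeSpectrum B, q.asIdeal.height ≤ 1 → ∀ (T : CommRingCat.{u}) (t : A ⟶ T),
      (∀ r, (Spec.map t r).asIdeal ≤ (PrimeSpectrum.comap sm q).asIdeal) →
      ∃ k : Spec T ⟶ (W₀ : Scheme.{u}), k ≫ W₀.ι = Spec.map t ≫ ιA ∧ Set.range (k ≫ Φ) ⊆ We := by
    intro q hq T t ht
    have hy := hcod _ (hgen q) (ringKrullDim_stalk_le_of_height x q hq)
    have hW : Set.range (Spec.map t ≫ ιA) ⊆ Set.range W₀.ι := by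
      rintro _ ⟨r, rfl⟩
      rw [Scheme.Opens.range_ι, Scheme.Hom.comp_apply]
      exact (hspec _ _ (ht r)).mem_open W₀.2 (by rw [hpt]; exact hy)
    refine ⟨IsOpenImmersion.lift W₀.ι _ hW, IsOpenImmersion.lift_fac _ _ _, ?_⟩
    rintro _ ⟨r, rfl⟩
    rw [Scheme.Hom.comp_apply]
    have h1 : W₀.ι (IsOpenImmersion.lift W₀.ι _ hW r) ⤳ W₀.ι (⟨Δ (X.fromSpecStalk x q), hy⟩ : (W₀ : Scheme.{u})) := by
      rw [← Scheme.Hom.comp_apply, IsOpenImmersion.lift_fac, Scheme.Hom.comp_apply, Scheme.Opens.ι_apply]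
      show _ ⤳ Δ _
      rw [← hpt]
      exact hspec _ _ (ht r)
    have h2 : IsOpenImmersion.lift W₀.ι _ hW r ⤳ (⟨Δ (X.fromSpecStalk x q), hy⟩ : (W₀ : Scheme.{u})) :=
      (W₀.ι.isOpenEmbedding.isInducing.specializes_iff).mp h1
    have h3 := h2.map Φ.continuous
    rw [heq _ hy] at h3
    refine h3.mem_open We.2 ((((hgen q).map Δ.continuous).map pP.continuous).map e.continuous |>.mem_open We.2 hze)
  -- the generic point of `Spec A`
  let q₀ : PrimeSpectrum B := ⟨⊥, Ideal.isPrime_bot⟩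
  obtain ⟨kK, hkK, hrK⟩ := hloc q₀ (by simp [q₀, Ideal.height_bot]) (CommRingCat.of K) (CommRingCat.ofHom (algebraMap A K)) (fun r => by
    intro a ha
    have h0 : r.asIdeal = ⊥ := (Ideal.eq_bot_or_top r.asIdeal).resolve_right r.isPrime.ne_top
    have : algebraMap A K a = 0 := by
      have : algebraMap A K a ∈ r.asIdeal := ha
      rwa [h0] at this
    rw [IsFractionRing.injective A K (this.trans (map_zero _).symm)]
    exact Submodule.zero_mem _)
  let gK := IsOpenImmersion.lift hWe.fromSpec (kK ≫ Φ) (by rw [hWe.range_fromSpec]; exact hrK)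
  let ψ : Γ(G, We) →+* K := (Spec.preimage gK).hom
  have hψ : ∀ c, ∃ a : A, algebraMap A K a = ψ c := by
    intro c
    by_contra hc
    push Not at hc
    obtain ⟨q, hq, hIq, hht, hbad⟩ := exists_prime_of_not_mem I K (ψ c) hc
    let qB : PrimeSpectrum B := ⟨q.map sm, Ideal.map_isPrime_of_surjective hsm hIq⟩
    have hqB : PrimeSpectrum.comap sm qB = ⟨q, hq⟩ := PrimeSpectrum.ext (by
      show (q.map sm).comap sm = q
      rw [Ideal.comap_map_of_surjective' sm hsm]; exact sup_eq_left.mpr hIq)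
    have hhB : qB.asIdeal.height ≤ 1 := by
      show (q.map sm).height ≤ 1
      have hcomp : sm = eB.toRingHom.comp (Ideal.Quotient.mk I) := RingHom.ext fun a => rfl
      rw [hcomp, ← Ideal.map_map]
      show ((q.map (Ideal.Quotient.mk I)).map eB).height ≤ 1
      rwa [RingEquiv.height_map]
    obtain ⟨k, hk, hr⟩ := hloc qB hhB (CommRingCat.of (Localization.AtPrime q)) (CommRingCat.ofHom (algebraMap A _)) (fun r => by
      rw [hqB]
      intro a ha
      by_contra haq
      exact r.isPrime.ne_top (Ideal.eq_top_of_isUnit_mem _ ha (IsLocalization.map_units _ (⟨a, haq⟩ : q.primeCompl))))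
    let gq := IsOpenImmersion.lift hWe.fromSpec (k ≫ Φ) (by rw [hWe.range_fromSpec]; exact hr)
    have hle : q.primeCompl ≤ nonZeroDivisors A := le_nonZeroDivisors_of_noZeroDivisors fun h => h q.zero_mem
    let lK : Localization.AtPrime q →+* K := IsLocalization.map K (RingHom.id A) (show q.primeCompl ≤ (nonZeroDivisors A).comap (RingHom.id A) from hle)
    have hlK : lK.comp (algebraMap A _) = algebraMap A K := by rw [IsLocalization.map_comp]; rfl
    have hkk : Spec.map (CommRingCat.ofHom lK) ≫ k = kK := by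
      rw [← cancel_mono W₀.ι, Category.assoc, hk, hkK, ← Spec.map_comp_assoc]
      exact congrArg (fun t => Spec.map t ≫ ιA) (CommRingCat.hom_ext hlK)
    have hgg : Spec.map (CommRingCat.ofHom lK) ≫ gq = gK := by
      rw [← cancel_mono hWe.fromSpec, Category.assoc, IsOpenImmersion.lift_fac, IsOpenImmersion.lift_fac, reassoc_of% hkk]
    have hψq : ψ c = lK ((Spec.preimage gq).hom c) := by
      show (Spec.preimage gK).hom c = _
      rw [show Spec.preimage gK = Spec.preimage gq ≫ CommRingCat.ofHom lK from Spec.map_injective (by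
        rw [Spec.map_preimage, Spec.map_comp, Spec.map_preimage, hgg])]
      rfl
    obtain ⟨⟨a, s⟩, has⟩ := IsLocalization.surj q.primeCompl ((Spec.preimage gq).hom c)
    refine hbad a s s.2 ?_
    rw [hψq, ← hlK]
    exact (map_mul lK _ _).symm.trans (congrArg lK has)
  choose ψA hψA using hψ
  let ψA' : Γ(G, We) →+* A :=
    { toFun := ψA
      map_one' := IsFractionRing.injective A K (by rw [hψA, map_one, map_one])
      map_mul' := fun a b => IsFractionRing.injective A K (by rw [map_mul, hψA, hψA, hψA, map_mul])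
      map_zero' := IsFractionRing.injective A K (by rw [hψA, map_zero, map_zero])
      map_add' := fun a b => IsFractionRing.injective A K (by rw [map_add, hψA, hψA, hψA, map_add]) }
  let h : Spec A ⟶ G := Spec.map (CommRingCat.ofHom ψA') ≫ hWe.fromSpec
  let j : Spec (CommRingCat.of K) ⟶ Spec A := Spec.map (CommRingCat.ofHom (algebraMap A K))
  have hjh : j ≫ h = kK ≫ Φ := by
    rw [← Spec.map_comp_assoc]
    have : CommRingCat.ofHom ψA' ≫ CommRingCat.ofHom (algebraMap A K) = Spec.preimage gK :=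
      CommRingCat.hom_ext (RingHom.ext hψA)
    exact (congrArg (fun t => Spec.map t ≫ hWe.fromSpec) this).trans (by
      simp only [Spec.map_preimage]; exact IsOpenImmersion.lift_fac _ _ _)
  haveI : IsDominant j := ⟨by
    show DenseRange (PrimeSpectrum.comap (algebraMap A K))
    rw [PrimeSpectrum.denseRange_comap_iff_ker_le_nilRadical, (RingHom.injective_iff_ker_eq_bot _).mp (IsFractionRing.injective A K)]
    exact bot_le⟩
  have hh : h ≫ pG = ιA ≫ pP := by
    refine ext_of_isDominant j ?_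
    rw [reassoc_of% hjh, hΦ, reassoc_of% hkK]
  -- spreading out
  have hcl : pP z = pG (h (closedPoint A)) := by
    rw [← Scheme.Hom.comp_apply h pG, hh, Scheme.Hom.comp_apply, Scheme.fromSpecStalk_closedPoint]
  haveI : LocallyOfFinitePresentation pG := GrothLib.LocProp.locallyOfFinitePresentation_of_isLocallyNoetherian pG
  obtain ⟨V₁, hzV₁, g₁, hg₁, hg₁S⟩ := GrothLib.SpreadOut.spread_out pP pG hcl (Scheme.stalkClosedPointTo h) (by
    apply Spec.map_injective
    rw [← cancel_mono (S.fromSpecStalk _)]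
    simp only [Spec.map_comp, Category.assoc, Scheme.SpecMap_stalkMap_fromSpecStalk,
      Scheme.SpecMap_stalkSpecializes_fromSpecStalk]
    rw [← Category.assoc]
    exact (congrArg (fun t => t ≫ pG) (Scheme.Spec_stalkClosedPointTo_fromSpecStalk h)).trans hh)
  rw [Scheme.Spec_stalkClosedPointTo_fromSpecStalk] at hg₁
  -- an irreducible neighbourhood
  obtain ⟨V₂, hzV₂, hirr⟩ := GrothLib.LocNoeth.exists_irreducible_nhd z (by rw [nilradical_eq_zero]; exact Ideal.isPrime_bot)
  let V := V₁ ⊓ V₂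
  refine ⟨V, P.homOfLE inf_le_left ≫ g₁, ⟨hzV₁, hzV₂⟩, ?_, ?_⟩
  · rw [Category.assoc, hg₁S, Scheme.homOfLE_ι_assoc]
  let γ : P := ιA η
  have hγz : γ ⤳ z := by
    have : γ ∈ Set.range ιA := ⟨η, rfl⟩
    rwa [Scheme.range_fromSpecStalk] at this
  have hγV : γ ∈ V := hγz.mem_open V.2 ⟨hzV₁, hzV₂⟩
  have hsub : Set.range (j ≫ ιA) ⊆ Set.range (V ⊓ W₀).ι := by
    rintro _ ⟨r, rfl⟩
    rw [Scheme.Opens.range_ι]
    refine ⟨?_, ?_⟩
    · have : (j ≫ ιA) r ∈ Set.range ιA := ⟨j r, (Scheme.Hom.comp_apply _ _ _).symm⟩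
      rw [Scheme.range_fromSpecStalk] at this
      exact Specializes.mem_open this V.2 ⟨hzV₁, hzV₂⟩
    · rw [← hkK, Scheme.Hom.comp_apply]; exact (kK r).2
  let jV := IsOpenImmersion.lift (V ⊓ W₀).ι (j ≫ ιA) hsub
  haveI : IsDominant jV := ⟨by
    intro p
    -- the point `γ` is the generic point of `V`
    obtain ⟨ρ, hρ⟩ : ∃ ρ, IsGenericPoint ρ (closure (V₂ : Set P)) :=
      QuasiSober.sober hirr.closure isClosed_closure
    have hρz : ρ ⤳ z := hρ.specializes (subset_closure hzV₂)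
    obtain ⟨r, hr⟩ : ρ ∈ Set.range ιA := by rw [Scheme.range_fromSpecStalk]; exact hρz
    have hγρ : γ ⤳ ρ := hr ▸ hspec η r bot_le
    let p0 : Spec (CommRingCat.of K) := ⟨⊥, Ideal.isPrime_bot⟩
    have h1 : (V ⊓ W₀).ι (jV p0) = γ := by
      rw [← Scheme.Hom.comp_apply, IsOpenImmersion.lift_fac, Scheme.Hom.comp_apply]
      refine congrArg ιA (PrimeSpectrum.ext ?_)
      exact Ideal.comap_bot_of_injective _ (IsFractionRing.injective A K)
    have h2 : γ ⤳ (V ⊓ W₀).ι p := hγρ.trans (hρ.specializes (subset_closure (p.2.1.2 : (p.1 : P) ∈ V₂)))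
    rw [← h1, (V ⊓ W₀).ι.isOpenEmbedding.isInducing.specializes_iff] at h2
    exact h2.mem_closed isClosed_closure (subset_closure ⟨p0, rfl⟩)⟩
  refine ext_of_isDominant_of_isSeparated pG ?_ jV ?_
  · simp [hg₁S, hΦ]
  have e1 : jV ≫ P.homOfLE (inf_le_left.trans inf_le_left : V ⊓ W₀ ≤ V₁) = j ≫ V₁.fromSpecStalkOfMem z hzV₁ := by
    rw [← cancel_mono V₁.ι]
    simp [jV, ιA, Scheme.Opens.fromSpecStalkOfMem_ι]
  have e2 : jV ≫ P.homOfLE (inf_le_right : V ⊓ W₀ ≤ W₀) = kK := by
    rw [← cancel_mono W₀.ι, Category.assoc, Scheme.homOfLE_ι, IsOpenImmersion.lift_fac, hkK]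
  rw [Scheme.homOfLE_homOfLE_assoc, reassoc_of% e1, reassoc_of% e2, ← hg₁, hjh]

end GrothLib.WeilExt
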